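import Cfsg.Agent.H601.R2.Base
import Cfsg.Agent.H921.K4.Uniq
import Cfsg.Agent.H636.Gow.Defs
import Cfsg.Agent.H55.OutGen

/-!
# S4829, `Row2`, sporadic groups and the Tits group: tools (helper852)

`Inv2 S` : a nontrivial rational valued irreducible character of odd degree invariant under all automorphisms.

* `Inv2.row2`, `Inv2.congr`;
* `Inv2.of_uniq` : a character of odd degree, the only one of its degree;
* `Inv2.of_inner`, `Inv2.of_out_one` : `Out S = 1` and `RatOdd S`;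
* `Inv2.of_outer` : `Out S` of order at most two and a character fixed by one automorphism which is not inner.
-/

set_option autoImplicit false

namespace Cfsg.Agent.H852.R2

open Cfsg Cfsg.Agent.H770.CY Cfsg.Agent.H601.R2 Cfsg.Agent.H636.Gow Cfsg.Agent.Characters.Core
  Cfsg.Agent.Characters

universe u v

/-- a nontrivial rational valued irreducible character of odd degree invariant under all automorphisms -/
def Inv2 (S : Type u) [Group S] : Prop :=
  ∃ χ : S → ℂ, IsIrrCharacter S χ ∧ χ ≠ 1 ∧ (∃ d : ℕ, Odd d ∧ χ 1 = d) ∧ (∀ g : S, ∃ q : ℚ, χ g = q) ∧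
    ∀ (b : MulAut S) (x : S), χ (b x) = χ x

variable {S : Type u} [Group S]

theorem Inv2.row2 [Finite S] (h : Inv2 S) : Row2 S := by
  obtain ⟨χ, h1, h2, h3, h4, h5⟩ := h
  exact row2_of fun B _ => ⟨χ, h1, h2, h3, h4, fun b _ => h5 b⟩

theorem Inv2.congr {T : Type v} [Group T] (e : S ≃* T) (h : Inv2 T) : Inv2 S := by
  obtain ⟨χ, h1, h2, ⟨d, hd, hd1⟩, h4, h5⟩ := h
  refine ⟨fun s => χ (e s), isIrr_comp e.toMonoidHom e.surjective h1, ?_, ⟨d, hd, ?_⟩, fun g => h4 _, fun b x => ?_⟩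
  · intro h
    apply h2
    funext y
    have h6 := congrFun h (e.symm y)
    simpa using h6
  · show χ (e 1) = d
    rw [map_one, hd1]
  · have h6 := h5 ((e.symm.trans b).trans e) (e x)
    have h7 : ((e.symm.trans b).trans e) (e x) = e (b x) := by
      show e (b (e.symm (e x))) = e (b x)
      rw [e.symm_apply_apply]
    rwa [h7] at h6

theorem ne_one_of_deg {χ : S → ℂ} {d : ℕ} (hd : χ 1 = d) (h1 : d ≠ 1) : χ ≠ 1 := by
  rintro rfl
  rw [Pi.one_apply] at hd
  exact h1 (by exact_mod_cast hd.symm)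

/-- the form with a given degree -/
theorem Inv2.mk' {χ : S → ℂ} (h : IsIrrCharacter S χ) {d : ℕ} (hd : χ 1 = d) (ho : Odd d) (h1 : d ≠ 1)
    (hrat : ∀ g : S, ∃ q : ℚ, χ g = q) (hinv : ∀ (b : MulAut S) (x : S), χ (b x) = χ x) : Inv2 S :=
  ⟨χ, h, ne_one_of_deg hd h1, ⟨d, ho, hd⟩, hrat, hinv⟩

theorem Inv2.of_uniq [Finite S] {χ : S → ℂ} (h : H921.K4.Uniq χ) (h1 : charDegree χ ≠ 1) : Inv2 S := by
  have h2 : χ 1 = (charDegree χ : ℕ) := Blocks.Basic.irr_one_eq_charDegree h.irr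
  refine Inv2.mk' h.irr h2 ?_ h1 (fun g => ?_) h.inv
  · exact Nat.not_even_iff_odd.1 fun h3 => h.odd h3.two_dvd
  · rw [GaloisBasic.exists_rat_iff (isIrr_isCharacter h.irr) g]
    exact fun m hm => h.rat m hm g

theorem Inv2.of_inner (h : RatOdd S) (hin : ∀ φ : MulAut S, φ ∈ (MulAut.conj : S →* MulAut S).range) : Inv2 S := by
  obtain ⟨χ, h1, h2, h3, h4⟩ := h
  refine ⟨χ, h1, h2, h3, h4, fun b x => ?_⟩
  obtain ⟨s, rfl⟩ := hin b
  exact isIrr_isClassFunction h1 x s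

theorem Inv2.of_out_one (h : Nat.card (Out S) = 1) (hr : RatOdd S) : Inv2 S := by
  refine Inv2.of_inner hr fun φ => ?_
  have h1 : (MulAut.conj : S →* MulAut S).range.index = 1 := h
  rw [Subgroup.index_eq_one.1 h1]
  exact Subgroup.mem_top φ

/-- `Out S` of order at most two -/
theorem Inv2.of_outer {χ : S → ℂ} (h : IsIrrCharacter S χ) {d : ℕ} (hd : χ 1 = d) (ho : Odd d) (h1 : d ≠ 1)
    (hrat : ∀ g : S, ∃ q : ℚ, χ g = q) {τ : MulAut S} (hτ : ∀ x, χ (τ x) = χ x)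
    (hout : ∀ φ : MulAut S, (∃ s : S, ∀ x, φ x = s * x * s⁻¹) ∨ ∃ s : S, ∀ x, φ x = s * τ x * s⁻¹) : Inv2 S := by
  refine Inv2.mk' h hd ho h1 hrat fun b x => ?_
  rcases hout b with ⟨s, hs⟩ | ⟨s, hs⟩
  · rw [hs]
    exact isIrr_isClassFunction h x s
  · rw [hs, ← hτ x]
    exact isIrr_isClassFunction h (τ x) s

/-- `|Out S| = 2` and an outer automorphism -/
theorem two_of_card (h : Nat.card (Out S) = 2) {τ : MulAut S} (hτ : τ ∉ (MulAut.conj : S →* MulAut S).range)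
    (φ : MulAut S) : (∃ s : S, ∀ x, φ x = s * x * s⁻¹) ∨ ∃ s : S, ∀ x, φ x = s * τ x * s⁻¹ := by
  have h1 : (MulAut.conj : S →* MulAut S).range.index = 2 := h
  by_cases hφ : φ ∈ (MulAut.conj : S →* MulAut S).range
  · obtain ⟨s, rfl⟩ := hφ
    exact Or.inl ⟨s, fun x => rfl⟩
  · right
    have h2 : φ * τ⁻¹ ∈ (MulAut.conj : S →* MulAut S).range := by
      rw [Subgroup.mul_mem_iff_of_index_two h1]
      constructor
      · exact fun h => absurd h hφ
      · exact fun h => absurd (inv_mem_iff.1 h) hτ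
    obtain ⟨s, hs⟩ := h2
    refine ⟨s, fun x => ?_⟩
    have h3 := DFunLike.congr_fun hs (τ x)
    rw [MulAut.conj_apply, MulAut.mul_apply, MulAut.inv_apply_self] at h3
    exact h3.symm

end Cfsg.Agent.H852.R2
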