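import Cfsg.Agent.H852.R2.Base
import Cfsg.Agent.H956.K547.McL
import Cfsg.Agent.H834.K547.SuzRow
import Cfsg.Agent.H825.K547.He
import Cfsg.Agent.H281.K547.FiTwoInv
import Cfsg.Agent.SporRec.Fi22Iso
import Cfsg.Agent.H813.K547.FiTF

/-!
# S4829, `Row2`: McL, Suz, He, Fi22, Fi24' (helper852)
-/

set_option autoImplicit false

namespace Cfsg.Agent.H852.R2

open Cfsg Cfsg.Agent.H601.R2 Cfsg.Agent.H636.Gow Cfsg.Agent.Characters.Core Cfsg.Agent.Characters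

universe u

variable {S : Type u} [Group S]

section McL

open Cfsg.Agent.LeechMat.Code Cfsg.Agent.LeechMat.Core Cfsg.Agent.LeechMat.Elements
open Cfsg.Agent.SporadicA.Co0Mono Cfsg.Agent.H997.OutMcL Cfsg.Agent.H419.Spor.Mathieu
open Cfsg.Agent.H740.K4.Wedge (alt)
open Cfsg.Agent.H419.LeechIrr Cfsg.Agent.H419.LeechFix Cfsg.Agent.H956.K547.McL

/-- **McL**: the exterior square (degree 231) of the character of degree 22 -/
theorem inv_mcl (h : Spor.IsoMcL S) : Inv2 S := by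
  obtain ⟨e0⟩ := h
  obtain ⟨μ, -, hμ⟩ := H713.Spor.McL.exists_22
  obtain ⟨hirr, hdeg, hrt⟩ := H956.K4.McLRow.alt_mu μ hμ
  refine Inv2.congr (e0.trans H713.Spor.McL.mclEquiv) (Inv2.mk' hirr (d := 231) ?_ (by decide) (by norm_num)
    (H956.K4.McLRow.rat_of_rt (isIrr_isCharacter hirr) hrt) ?_)
  · rw [Blocks.Basic.irr_one_eq_charDegree hirr, hdeg]
  · intro α k
    have hμ' : ∀ k, (μ : _ → ℂ) k = lchi K0.subtype k - 2 := by
      intro k
      rw [hμ k]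
      push_cast
      ring
    have hinv : ∀ k, (μ : _ → ℂ) (α k) = (μ : _ → ℂ) k := by
      intro k
      obtain ⟨g, -, -, hα⟩ := exists_conj' α
      rw [hμ', hμ']
      congr 1
      show (Cfsg.Agent.Co2Type.Mono.tr8 ((α k : _) : ↥Co0) : ℂ) / 8 = (Cfsg.Agent.Co2Type.Mono.tr8 (k : ↥Co0) : ℂ) / 8
      rw [hα, tr8_conj]
    unfold Cfsg.Agent.H740.K4.Wedge.alt
    rw [← map_mul, hinv, hinv]

end McL

section Suz

open Cfsg.Spor (Suz)
open Cfsg.Agent.H978.TZ.Suzuki (finS exists_chars eq_of_sum card_Fx_aut)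
open Cfsg.Agent.H299.K4.SuzRow (card_suz card_Fx_pow)

/-- **Suz**: the character of degree 1001 -/
theorem inv_suz (h : Spor.IsoSuz S) : Inv2 S := by
  have := finS
  obtain ⟨e⟩ := h
  obtain ⟨χ, ψ, h1, h2, hfx⟩ := exists_chars
  have h2' : (ψ : Suz → ℂ) 1 = (1001 : ℕ) := by rw [h2]; norm_num
  refine Inv2.congr e (Inv2.mk' ψ.2 h2' (by decide) (by norm_num) (fun g => ?_) fun φ g => ?_)
  · rw [GaloisBasic.exists_rat_iff (isIrr_isCharacter ψ.2) g]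
    intro k hk
    have k1 : IsIrrCharacter Suz (fun g => (χ : Suz → ℂ) (g ^ k)) := GaloisIrr.isIrr_pow hk χ.2
    have k2 : IsIrrCharacter Suz (fun g => (ψ : Suz → ℂ) (g ^ k)) := GaloisIrr.isIrr_pow hk ψ.2
    have h := (eq_of_sum χ.2 ψ.2 k1 k2 (fun x => ?_) ?_ ?_).symm
    · exact congrFun h g
    · rw [← hfx]
      show _ = 1 + (χ : Suz → ℂ) (x ^ k) + (ψ : Suz → ℂ) (x ^ k)
      rw [← hfx, card_Fx_pow hk]
    · show (χ : Suz → ℂ) 1 ≠ (ψ : Suz → ℂ) (1 ^ k)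
      rw [one_pow, h1, h2]
      norm_num
    · show (χ : Suz → ℂ) (1 ^ k) ≠ (ψ : Suz → ℂ) (1 ^ k)
      rw [one_pow, h1, h2]
      norm_num
  · have k1 : IsIrrCharacter Suz ((χ : Suz → ℂ) ∘ φ) := isIrr_comp (φ : Suz →* Suz) φ.surjective χ.2
    have k2 : IsIrrCharacter Suz ((ψ : Suz → ℂ) ∘ φ) := isIrr_comp (φ : Suz →* Suz) φ.surjective ψ.2
    have h := (eq_of_sum χ.2 ψ.2 k1 k2 (fun x => ?_) ?_ ?_).symm
    · exact congrFun h g
    · rw [← hfx]
      show _ = 1 + (χ : Suz → ℂ) (φ x) + (ψ : Suz → ℂ) (φ x)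
      rw [← hfx, card_Fx_aut]
    · show (χ : Suz → ℂ) 1 ≠ (ψ : Suz → ℂ) (φ 1)
      rw [map_one, h1, h2]
      norm_num
    · show (χ : Suz → ℂ) (φ 1) ≠ (ψ : Suz → ℂ) (φ 1)
      rw [map_one, h1, h2]
      norm_num

end Suz

section He

open Cfsg.Agent.H825.K547.He

/-- **He**: the character of degree 1275 -/
theorem inv_he (h : Spor.IsoHe S) : Inv2 S := by
  obtain ⟨e⟩ := h
  obtain ⟨hfin, -⟩ := Cfsg.Agent.SporadicB.HeUpper.card_he_le
  obtain ⟨χ, hχ⟩ := exists_val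
  refine Inv2.congr e (Inv2.of_outer hχ.irr hχ.deg (by decide) (by norm_num) (fun g => ?_) (val_rho hχ) fun φ => ?_)
  · obtain ⟨q, hq⟩ := hχ.exists_rat H329.K4.He.base_tr g
    refine ⟨∑ i, q i * Cfsg.Agent.H707.Odd.He.a i, ?_⟩
    rw [hq, Rat.cast_sum]
    refine Finset.sum_congr rfl fun i _ => ?_
    rw [Rat.cast_mul]
    congr 1
    fin_cases i <;> simp [ac, Cfsg.Agent.H707.Odd.He.a]
  · by_cases hn : H821.K547.IsInn φ
    · exact Or.inl hn
    · exact Or.inr (eq_conj_rho hn)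

end He

section Fi22

open Cfsg.Agent.H281.K547.FiTwo

/-- **Fi22**: the character of degree 429 -/
theorem inv_fi22 (h : Spor.IsoFi22 S) : Inv2 S := by
  obtain ⟨e⟩ := h
  have hfin : Finite Cfsg.Agent.Fischer.Group22.G := finG
  obtain ⟨χ, hχ⟩ := exists_chi
  refine Inv2.congr (e.trans Cfsg.Agent.SporRec.Fi22Iso.ψe) (Inv2.mk' χ.2 (d := 429) ?_ (by decide) (by norm_num)
    (chi_rat hχ) fun b x => chi_inv hχ b x)
  rw [chi_one hχ]
  norm_num

end Fi22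

section Fi24

open Cfsg.Agent.H813.K547.FiTF

/-- **Fi24'**: the character of degree 57477 -/
theorem inv_fi24 (h : Spor.IsoFi24' S) : Inv2 S := by
  obtain ⟨e⟩ := h
  have := finite_F
  obtain ⟨χ, h1, h2, h3, h4⟩ := exists_chi
  refine Inv2.congr e (Inv2.mk' h1.odd.1 (d := 57477) ?_ (by decide) (by norm_num) (fun g => ?_) h4)
  · rw [Blocks.Basic.irr_one_eq_charDegree h1.odd.1, h2]
  · obtain ⟨z, hz⟩ := h3 g
    exact ⟨z, by rw [hz]; push_cast; rfl⟩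

end Fi24

end Cfsg.Agent.H852.R2
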