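import Cfsg.Agent.H852.R2.Base
import Cfsg.Agent.H189.K547.Tits

/-!
# S4829, `Row2`: the Tits group (helper852)

The constituent of degree 351 of the permutation character on 1755 points.
-/

set_option autoImplicit false

namespace Cfsg.Agent.H852.R2

open Cfsg Cfsg.Agent.Characters Cfsg.Agent.Characters.Core Cfsg.Agent.H601.R2 Cfsg.Agent.H694 MulAction
open Cfsg.Agent.H610 Cfsg.Agent.H610.EB Cfsg.Agent.H600.EBOrb Cfsg.Agent.H600
open Cfsg.Agent.H707.RowTitsModel Cfsg.Agent.SporadicB.RuTits Cfsg.Agent.H189.K547.TitsChar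

universe u

theorem inv_tits_of {S : Type u} [Group S] [Fintype S] {e : S ≃* T} [MulAction S X]
    (hact : ∀ (s : S) (x : X), s • x = e s • x) : Inv2 S := by
  obtain ⟨f, hf, huniq⟩ := exists_uniq hact
  have hd : (f 2 : S → ℂ) 1 = (351 : ℕ) := by
    rw [Blocks.Basic.irr_one_eq_charDegree (f 2).2, (hf 2).1]
    rfl
  refine Inv2.mk' (f 2).2 hd (by decide) (by norm_num) (fun g => ?_) fun τ x => ?_
  · rw [GaloisBasic.exists_rat_iff (isIrr_isCharacter (f 2).2) g]
    intro k hk
    have h1 : Twist.pw hk (f 2) = f 2 := by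
      refine huniq 2 _ ?_ ?_
      · rw [← (hf 2).1]
        show ⌊((f 2 : S → ℂ) (1 ^ k)).re⌋₊ = ⌊((f 2 : S → ℂ) 1).re⌋₊
        rw [one_pow]
      · have h2 := Twist.classInner_pow hk (permC S X) (f 2 : S → ℂ)
        have h3 : (fun g => permC S X (g ^ k)) = permC S X := funext fun s => permC_pow hk s
        rw [h3] at h2
        intro h4
        exact (hf 2).2 (h2.symm.trans h4)
    have h2 := congrFun (congrArg Subtype.val h1) g
    exact h2
  · let θ : IrrCharacter S := ⟨(f 2 : S → ℂ) ∘ τ.toMonoidHom, isIrr_comp τ.toMonoidHom τ.surjective (f 2).2⟩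
    have h1 : θ = f 2 := by
      refine huniq 2 θ ?_ ?_
      · rw [← (hf 2).1]
        show ⌊((f 2 : S → ℂ) (τ 1)).re⌋₊ = ⌊((f 2 : S → ℂ) 1).re⌋₊
        rw [map_one]
      · have h2 := Clifford.classInner_comp_mulEquiv τ (permC S X) (f 2 : S → ℂ)
        have h3 : permC S X ∘ τ = permC S X := funext fun s => permC_aut hact τ s
        rw [h3] at h2
        intro h4
        exact (hf 2).2 (h2.symm.trans h4)
    exact congrFun (congrArg Subtype.val h1) x

theorem inv_tits {S : Type u} [Group S] (h : Lie.IsoTits S) : Inv2 S := by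
  obtain ⟨e⟩ := h
  obtain ⟨f⟩ := H707.RowTits.equiv
  have : Finite T := Nat.finite_of_card_ne_zero (by rw [card_T]; norm_num)
  have : Finite S := Finite.of_equiv T (e.trans f).symm.toEquiv
  let _ : MulAction S X := MulAction.compHom X (e.trans f).toMonoidHom
  let _ : Fintype S := Fintype.ofFinite S
  exact inv_tits_of (e := e.trans f) (fun _ _ => rfl)

end Cfsg.Agent.H852.R2
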