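import Cfsg.Agent.H852.R2.SporB
import Cfsg.Agent.H852.R2.SporC
import Cfsg.Agent.H852.R2.SporD
import Cfsg.Agent.H852.R2.Tits
import Cfsg.Agent.H636.Gow.Asm
import Cfsg.Agent.S2060
import Cfsg.Agent.S2063
import Cfsg.Agent.S2064
import Cfsg.Agent.S2065
import Cfsg.Agent.S2068
import Cfsg.Agent.S2069
import Cfsg.Agent.S2070
import Cfsg.Agent.S2071
import Cfsg.Agent.S2076
import Cfsg.Agent.S2077
import Cfsg.Agent.S2080
import Cfsg.Agent.S2083
import Cfsg.Agent.S2084
import Cfsg.Agent.S2085

/-!
# S4829, `Row2`: all sporadic groups and the Tits group (helper852)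

* `inv_spor` : every sporadic group has a nontrivial rational valued irreducible character of odd degree invariant under
  all automorphisms (13 groups without outer automorphisms: from S4913; 12 groups with `|Out| = 2`: explicit);
* `row2_spor`, `row2_tits` : the fields `spor`, `tits` of `H776.CY.Rows2`.
-/

set_option autoImplicit false

namespace Cfsg.Agent.H852.R2

open Cfsg Cfsg.Agent.H770.CY Cfsg.Agent.H636.Gow

universe u v

theorem of_one {S : Type u} [Group S] {T : Type v} [Group T] (h1 : Nat.card (Out T) = 1) (h : Nonempty (S ≃* T))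
    (hr : RatOdd S) : Inv2 S := by
  obtain ⟨e⟩ := h
  exact Inv2.of_out_one ((H55.OutGen.card_out_congr e).trans h1) hr

theorem inv_spor {K : Type u} [Group K] [Finite K] [IsSimpleGroup K] (h : IsSporadicGroup K) : Inv2 K := by
  rcases h with h | h | h | h | h | h | h | h | h | h | h | h | h | h | h | h | h | h | h | h | h | h | h | h | h | h
  · exact of_one S2060.result h (H679.GowM.m11 h)
  · exact inv_m12 h
  · exact inv_m22 h
  · exact of_one S2063.result h (H679.GowM.m23 h)
  · exact of_one S2064.result h (H679.GowM.m24 h)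
  · exact of_one S2065.result h (H707.Odd.J1.row h)
  · exact inv_j2 h
  · exact inv_j3 h
  · exact of_one S2068.result h (H107.JFourCol.j4 h)
  · exact of_one S2069.result h (H52.GowRank.co1 h)
  · exact of_one S2070.result h (H52.GowRank.co2 h)
  · exact of_one S2071.result h (H52.GowRank.co3 h)
  · exact inv_mcl h
  · exact inv_hs h
  · exact inv_suz h
  · exact inv_he h
  · exact of_one S2077.result h (H52.GowRank.ru h)
  · exact inv_on h
  · exact of_one S2076.result h (H707.Odd.Ly.row h)
  · exact inv_fi22 h
  · exact of_one S2080.result h (H52.GowFi23.fi23 h)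
  · exact inv_fi24 h
  · exact inv_hn h
  · exact of_one S2083.result h (H707.Odd.Th.row h)
  · exact of_one S2084.result h (H52.GowBM.b h)
  · exact of_one S2085.result h (H52.GowBM.m h)

/-- **the sporadic groups** -/
theorem row2_spor : RowFor2 (fun X _ => IsSporadicGroup X) := by
  intro X _ _ _ _ h
  exact (inv_spor h).row2

/-- **the Tits group** -/
theorem row2_tits : RowFor2 (fun X _ => Lie.IsoTits X) := by
  intro X _ _ _ _ h
  exact (inv_tits h).row2

end Cfsg.Agent.H852.R2
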