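import Cfsg.Agent.H852.R2.Base
import Cfsg.Agent.H128.K547.M12
import Cfsg.Agent.H921.K4.M22
import Cfsg.Agent.H832.K547.JTwo
import Cfsg.Agent.H627.Gow.J3
import Cfsg.Agent.H587.K547.HS
import Cfsg.Agent.S2066

/-!
# S4829, `Row2`: M12, M22, J2, J3, HS (helper852)
-/

set_option autoImplicit false

namespace Cfsg.Agent.H852.R2

open Cfsg Cfsg.Agent.H601.R2 Cfsg.Agent.H636.Gow Cfsg.Agent.Characters.Core Cfsg.Agent.Characters

universe u

variable {S : Type u} [Group S]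

/-- the only irreducible character of its degree -/
theorem Inv2.of_deg [Finite S] {χ : S → ℂ} (h : IsIrrCharacter S χ) {d : ℕ} (hd : χ 1 = d) (ho : Odd d) (h1 : d ≠ 1)
    (hu : ∀ ψ : S → ℂ, IsIrrCharacter S ψ → ψ 1 = d → ψ = χ) : Inv2 S := by
  have hc : charDegree χ = d := Blocks.Basic.charDegree_of_eq hd
  refine Inv2.of_uniq (χ := χ) ⟨h, ?_, fun ψ hψ h2 => hu ψ hψ (by rw [h2, hd])⟩ (by rw [hc]; exact h1)
  rw [hc]
  exact fun h2 => Nat.not_even_iff_odd.2 ho (even_iff_two_dvd.2 h2)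

/-- **M12**: the character of degree 45 -/
theorem inv_m12 (h : Spor.IsoM12 S) : Inv2 S := by
  classical
  have hfin := H128.K547.M12.finite' h
  have hs := H128.K547.M12.simple h
  have hc := H128.K547.M12.card h
  have := Fintype.ofFinite S
  have := finite_irr (G := S)
  have := Fintype.ofFinite (IrrCharacter S)
  obtain ⟨C, t, hdeg, ho, -, -, -⟩ := H417.DegMTwelve.exists_ctx hc
    (fun P => Cfsg.Agent.MTwelve.SylowEleven.centralizer_sylow11 hc P)
    (fun P => Cfsg.Agent.MTwelve.SylowEleven.card_normalizer_sylow11 hc P)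
  have hone : ∀ ψ : IrrCharacter S, (ψ : S → ℂ) 1 = (C.deg ψ : ℕ) := fun ψ => by
    rw [hdeg]
    exact Cfsg.Agent.MTwelve.BlockData.apply_one ψ
  refine Inv2.of_deg C.c45.2 (d := 45) (by rw [hone, C.d45]) (by decide) (by norm_num) fun ψ hψ hd => ?_
  have h0 := hone ⟨ψ, hψ⟩
  have h1 : C.deg ⟨ψ, hψ⟩ = 45 := by
    rw [show ((⟨ψ, hψ⟩ : IrrCharacter S) : S → ℂ) = ψ from rfl, hd] at h0
    exact_mod_cast h0.symm
  have h2 : (⟨ψ, hψ⟩ : IrrCharacter S) = C.c45 := by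
    rcases C.rest ⟨ψ, hψ⟩ with h3 | h3 | h3 | h3 | h3 | h3 | h3 | h3
    · rw [h3, C.deg_o] at h1; omega
    · exact h3
    · rw [h3, C.d54] at h1; omega
    · rw [h3, C.d120] at h1; omega
    · rw [h3, C.d144] at h1; omega
    · rw [h3, C.dth] at h1; omega
    · rw [h3, C.dth'] at h1; omega
    · rw [h1] at h3; omega
  exact congrArg Subtype.val h2

/-- **M22** -/
theorem inv_m22 (h : Spor.IsoM22 S) : Inv2 S := by
  have : Finite S := by
    obtain ⟨e⟩ := h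
    exact Finite.of_equiv _ e.symm.toEquiv
  obtain ⟨f, hf⟩ := Cfsg.Agent.H417.DegMTwentyTwo.exists_enum (H921.K4.M22.isM22 h)
  have h1 := H921.K4.M22.hD 1 (by simp)
  refine Inv2.of_uniq (H921.K4.uniq_of_enum f _ hf 1 h1.1 h1.2) ?_
  rw [hf]
  decide

/-- **J3**: the character of degree 1615 -/
theorem inv_j3 [Finite S] (h : Spor.IsoJ3 S) : Inv2 S := by
  obtain ⟨χ, h1, h2⟩ := H627.Gow.J3.exists_unique h
  exact Inv2.of_deg χ.2 h1 (by decide) (by norm_num) fun ψ hψ hd => congrArg Subtype.val (h2 ⟨ψ, hψ⟩ hd)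

/-- **HS**: the character of degree 77 -/
theorem inv_hs (h : Spor.IsoHS S) : Inv2 S := by
  obtain ⟨e⟩ := H819.K4.HS.exists_iso h
  obtain ⟨a, ha1, ha2, ha3, ha4⟩ := H587.K547.inv_77
  exact Inv2.congr e (Inv2.mk' ha1 ha2 (by decide) (by norm_num) ha3 ha4)

open Cfsg.Agent.SporadicA.J2Hundred Cfsg.Agent.H300.K4.JTwoData Cfsg.Agent.H300.K4.JTwoDeg in
/-- **J2**: the character of degree 63 -/
theorem inv_j2 (h : Spor.IsoJ2 S) : Inv2 S := by
  have hc : Nat.card Cfsg.Spor.J2 = 604800 := Cfsg.Agent.H300.K4.JTwo.card_J2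
  obtain ⟨f⟩ := J2.HundredGens.J2_iso hc
  obtain ⟨e⟩ := id h
  have hO : Nat.card (Cfsg.Out Cfsg.Agent.SporadicA.J2Hundred.G) = 2 := by
    rw [H55.OutGen.card_out_congr f.symm]
    exact S2066.result
  obtain ⟨χ, h1, h2, h3⟩ := exists_63
  refine Inv2.congr (e.trans f) (Inv2.of_outer h1 h2 (by decide) (by norm_num) (fun g => ⟨_, h3 g⟩)
    (τ := H832.K547.JTwo.τ₀) (fun g => ?_) (two_of_card hO ?_))
  · rw [h3, h3, H832.K547.JTwo.sum_inv (om a63) g (H832.K547.JTwo.τ₀ g) (H832.K547.JTwo.τ₀_coe g)]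
  · rintro ⟨s, hs⟩
    exact H832.K547.JTwo.not_inn ⟨s, fun x => by rw [← hs]; exact MulAut.conj_apply s x⟩

end Cfsg.Agent.H852.R2
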